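import Groth.Agent.L28.DivGen.Components
import Groth.Agent.L27.NormalSepClosed.ConstNormal

/-!
The constant sheaf of a uniquely divisible group on a normal noetherian scheme is acyclic.
-/

set_option autoImplicit false
set_option linter.style.haveILetI false
set_option linter.unusedSectionVars false
set_option backward.isDefEq.respectTransparency.types false

universe u

open CategoryTheory CategoryTheory.Limits AlgebraicGeometry Opposite
open Groth.L27.ConstSect Groth.L28.CurveCd Groth.L28.DivGen

namespace Groth.L28.ConstRat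

variable (A : AddCommGrpCat.{u + 1}) (hA : ∀ n : ℕ, 0 < n → Function.Bijective fun a : A => n • a)

include hA in
/-- torsion cohomology of a uniquely divisible sheaf vanishes -/
theorem subsingleton_of_torsion {X : Scheme.{u}} (q : ℕ) (h : IsAddTorsion (EtCoh.H X (K A X) q)) :
    Subsingleton (EtCoh.H X (K A X) q) := by
  refine subsingleton_of_forall_eq 0 fun z => ?_
  obtain ⟨n, hn, hn0⟩ := isOfFinAddOrder_iff_nsmul_eq_zero.1 (h z)
  let m : A ⟶ A := AddCommGrpCat.ofHom (nsmulAddMonoidHom n)
  haveI : IsIso m := (ConcreteCategory.isIso_iff_bijective m).2 (hA n hn)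
  let G := constantSheaf X.smallEtaleTopology AddCommGrpCat.{u + 1}
  haveI : (EtCore.gsec X).Additive := {}
  haveI : G.Additive := (EtCore.constAdj X).left_adjoint_additive
  haveI := isAdditive_HF' (X := X) q
  have hm : m = n • 𝟙 A := by
    ext a
    let e : (A ⟶ A) →+ A := AddMonoidHom.mk' (fun g => g a) fun _ _ => rfl
    exact ((map_nsmul e n (𝟙 A)).trans rfl).symm
  have hG : G.map m = n • 𝟙 (K A X) := by
    rw [hm, Functor.map_nsmul, CategoryTheory.Functor.map_id]
  haveI : IsIso ((EtCoh.HF X q).map (G.map m)) := inferInstance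
  refine (ConcreteCategory.bijective_of_isIso ((EtCoh.HF X q).map (G.map m))).1 ?_
  rw [hG, Functor.map_nsmul, CategoryTheory.Functor.map_id]
  refine Eq.trans ?_ (map_zero ((n • 𝟙 ((EtCoh.HF X q).obj (K A X)))).hom).symm
  let e : ((EtCoh.HF X q).obj (K A X) ⟶ (EtCoh.HF X q).obj (K A X)) →+ EtCoh.H X (K A X) q :=
    AddMonoidHom.mk' (fun g => g z) fun _ _ => rfl
  exact (map_nsmul e n (𝟙 _)).trans hn0

include hA in
/-- the integral case -/
theorem subsingleton_H_integral {X : Scheme.{u}} [AlgebraicGeometry.IsIntegral X] [CompactSpace X]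
    [QuasiSeparatedSpace X] (hN : ∀ x : X, IsIntegrallyClosed (X.presheaf.stalk x)) (q : ℕ) :
    Subsingleton (EtCoh.H X (K A X) (q + 1)) := by
  refine subsingleton_of_torsion A hA _ ?_
  have hr : Set.range (X.fromSpecResidueField (genericPoint X)) = {genericPoint X} := X.range_fromSpecResidueField _
  haveI := Groth.L27.NormalSepClosed.isIso_cmp_point hN A (X.fromSpecResidueField (genericPoint X)) hr
  exact isAddTorsion_of_iso ((EtCoh.HF X (q + 1)).mapIso (asIso (cmp A (X.fromSpecResidueField (genericPoint X)))))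
    (isAddTorsion_H_push _ q _)

variable {X : Scheme.{u}} [AlgebraicGeometry.IsNoetherian X] (h : ∀ x : X, IsDomain (X.presheaf.stalk x))

/-- the constant sheaves of the components -/
noncomputable abbrev constFam (Z : irreducibleComponents (X : Type u)) : EtCoh.Ab X :=
  (EtCoh.push (compOpen h Z).ι).obj (K A (compOpen h Z : Scheme.{u}))

theorem bijective_stalk_cmp (Z : irreducibleComponents (X : Type u)) {Ω : Type u} [Field Ω] [IsSepClosed Ω]
    (v : Spec (CommRingCat.of Ω) ⟶ (compOpen h Z : Scheme.{u})) :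
    Function.Bijective ((EtCoh.stalk (v ≫ (compOpen h Z).ι)).map (cmp A (compOpen h Z).ι)) := by
  let j := (compOpen h Z).ι
  haveI := isClosedImmersion_compOpen h Z
  haveI := Groth.L27.EtSite.isIso_counit j (Groth.L27.EtSite.propA_of_isIntegralHom j) ((EtCoh.pull j).obj (K A X))
  haveI hp : IsIso ((EtCoh.pull j).map ((EtCoh.pullPushAdj j).unit.app (K A X))) :=
    (IsIso.eq_inv_of_inv_hom_id (g := (EtCoh.pull j).map ((EtCoh.pullPushAdj j).unit.app (K A X)))
      ((EtCoh.pullPushAdj j).left_triangle_components (K A X))) ▸ inferInstance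
  haveI : IsIso ((EtCoh.pull j ⋙ EtCoh.stalk v).map ((EtCoh.pullPushAdj j).unit.app (K A X))) :=
    inferInstanceAs (IsIso ((EtCoh.stalk v).map ((EtCoh.pull j).map ((EtCoh.pullPushAdj j).unit.app (K A X)))))
  haveI : IsIso ((EtCoh.stalk (v ≫ j)).map ((EtCoh.pullPushAdj j).unit.app (K A X))) :=
    (NatIso.isIso_map_iff (Groth.L27.EtSite.stalkPullIso j v) _).1 ‹_›
  haveI : IsIso ((EtCoh.stalk (v ≫ j)).map (cmp A j)) := by
    unfold Groth.L27.ConstSect.cmp
    rw [Functor.map_comp]
    infer_instance
  exact ConcreteCategory.bijective_of_isIso _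

include hA in
/-- uniquely divisible constant sheaves are acyclic on normal noetherian schemes -/
theorem subsingleton_H (hN : ∀ x : X, IsDomain (X.presheaf.stalk x) ∧ IsIntegrallyClosed (X.presheaf.stalk x))
    (q : ℕ) : Subsingleton (EtCoh.H X (K A X) (q + 1)) := by
  have h : ∀ x : X, IsDomain (X.presheaf.stalk x) := fun x => (hN x).1
  haveI := (TopologicalSpace.NoetherianSpace.finite_irreducibleComponents (α := X)).to_subtype
  haveI := Fintype.ofFinite (irreducibleComponents (X : Type u))
  haveI : HasBiproduct (constFam A h) := HasBiproductsOfShape.has_biproduct _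
  let ψ : K A X ⟶ ⨁ constFam A h := biproduct.lift fun Z => cmp A (compOpen h Z).ι
  have hb : ∀ (Ω : Type u) [Field Ω] [IsSepClosed Ω] (ξ : Spec (CommRingCat.of Ω) ⟶ X),
      Function.Bijective ((EtCoh.stalk ξ).map ψ) := fun Ω _ _ ξ => by
    let x := ξ.base (default : Spec (CommRingCat.of Ω))
    let Z₀ : irreducibleComponents (X : Type u) := ⟨irreducibleComponent x, irreducibleComponent_mem_irreducibleComponents x⟩
    refine bijective_stalk_lift (constFam A h) _ ξ Z₀ (fun Z hne => ?_) ?_
    · haveI := isClosedImmersion_compOpen h Z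
      refine Groth.L27.EtSite.isZero_stalk_push _ _ ξ fun hx => hne (Subtype.ext ?_)
      have hx' : x ∈ Z.1 := (compOpen h Z).range_ι.le hx
      haveI := h x
      exact Groth.L21.NormalTotal.eq_of_mem_irreducibleComponents x Z.2 Z₀.2 hx' mem_irreducibleComponent
    · have hι : IsOpenImmersion (compOpen h Z₀).ι := inferInstance
      have hr : Set.range ξ ⊆ Set.range (compOpen h Z₀).ι := by
        rintro _ ⟨z, rfl⟩
        rw [Subsingleton.elim (α := Spec (CommRingCat.of Ω)) z default]
        exact (compOpen h Z₀).range_ι.ge (mem_irreducibleComponent : x ∈ irreducibleComponent x)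
      have hf := @IsOpenImmersion.lift_fac _ _ _ (compOpen h Z₀).ι ξ hι hr
      rw [← hf]
      exact bijective_stalk_cmp A h Z₀ _
  haveI : Mono ψ := (Groth.L27.EtSite.mono_iff_stalks _).2 fun Ω _ _ ξ => (hb Ω ξ).1
  haveI : Epi ψ := (Groth.L27.EtSite.epi_iff_stalks _).2 fun Ω _ _ ξ => (hb Ω ξ).2
  haveI : IsIso ψ := isIso_of_mono_of_epi _
  refine subsingleton_H_of_iso (asIso ψ).symm (q + 1) ?_
  refine subsingleton_of_forall_eq 0 fun z => eq_zero_of_π (constFam A h) (q + 1) z fun Z => ?_
  haveI := isClosedImmersion_compOpen h Z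
  haveI := isIntegral_compOpen h Z
  haveI := isNoetherian_compOpen h Z
  haveI := Groth.L27.EtSite.preservesFiniteLimits_pull (compOpen h Z).ι
  haveI := subsingleton_H_integral A hA (X := (compOpen h Z : Scheme.{u})) (fun w => by
    haveI := (hN ((compOpen h Z).ι w)).2
    exact IsIntegrallyClosed.of_equiv (asIso ((compOpen h Z).ι.stalkMap w)).commRingCatIsoToRingEquiv) q
  exact (Groth.L27.EtSite.bijective_HofPush (compOpen h Z).ι _
    (fun r hr => Groth.L27.EtSite.isZero_Rpush_of_propB _ (Groth.L27.EtSite.propB_of_isIntegralHom _) _ r hr)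
      (q + 1)).1 (Subsingleton.elim _ _)

end Groth.L28.ConstRat
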